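import Cfsg.Agent.H20.Semireg.Count
import Cfsg.Agent.H85.BrauerSuzuki
import Cfsg.Agent.H16.OddOrder
import Cfsg.Agent.H1.Cores
import Cfsg.Agent.H56.Zassenhaus

/-!
Doubly transitive groups in which every non-identity element of the centraliser of some
involution fixes the same number of points: no three points are fixed, or there is a
regular normal subgroup.
-/

set_option autoImplicit false
set_option linter.unusedSectionVars false
set_option linter.style.haveILetI false

namespace H20.Semireg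

open MulAction
open scoped commutatorElement

variable {G Ω : Type*} [Group G] [MulAction G Ω] {i : ℕ}

variable (G Ω) in
/-- a normal subgroup acting regularly -/
def HasRegular : Prop :=
  ∃ R : Subgroup G, R.Normal ∧ (∀ x y : Ω, ∃ r ∈ R, r • x = y) ∧
    ∀ x : Ω, ∀ r ∈ R, r • x = x → r = 1

theorem hasRegular_of_comm (S : Setup G Ω i) (A : Subgroup G) [A.Normal] (hA : A ≠ ⊥)
    (hcomm : ∀ x ∈ A, ∀ y ∈ A, x * y = y * x) : HasRegular G Ω := by
  haveI := S.faithful
  have htr := H56.normal_pretransitive S.h2 A hA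
  refine ⟨A, inferInstance, fun x y => ?_, fun x r hr hrx => ?_⟩
  · obtain ⟨⟨r, hr⟩, e⟩ := htr.exists_smul_eq x y
    exact ⟨r, hr, e⟩
  · refine eq_one_of_fix_all S fun y => ?_
    obtain ⟨⟨k, hk⟩, e⟩ := htr.exists_smul_eq x y
    have e' : k • x = y := e
    rw [← e', ← mul_smul, hcomm r hr k hk, mul_smul, hrx]

theorem hasRegular_of_solvable (S : Setup G Ω i) (O : Subgroup G) [O.Normal] [Group.IsSolvable O]
    (hO : O ≠ ⊥) : HasRegular G Ω := by
  classical
  obtain ⟨k, hk⟩ := (Group.isSolvable_def O).1 inferInstance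
  have hnorm : ∀ j, ((derivedSeries O j).map O.subtype).Normal := by
    intro j
    induction j with
    | zero => rw [derivedSeries_zero, ← MonoidHom.range_eq_map, Subgroup.range_subtype]; infer_instance
    | succ j ih =>
      rw [derivedSeries_succ, Subgroup.map_commutator]
      haveI := ih
      infer_instance
  have hex : ∃ j, (derivedSeries O j).map O.subtype = ⊥ := ⟨k, by rw [hk, Subgroup.map_bot]⟩
  have hj := Nat.find_spec hex
  have h0 : Nat.find hex ≠ 0 := fun e => by
    rw [e, derivedSeries_zero, ← MonoidHom.range_eq_map, Subgroup.range_subtype] at hj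
    exact hO hj
  obtain ⟨j, hj'⟩ := Nat.exists_eq_succ_of_ne_zero h0
  rw [hj', derivedSeries_succ, Subgroup.map_commutator] at hj
  haveI := hnorm j
  refine hasRegular_of_comm S ((derivedSeries O j).map O.subtype) (Nat.find_min hex (by omega)) ?_
  intro x hx y hy
  have h : ⁅x, y⁆ ∈ (⊥ : Subgroup G) := hj ▸ Subgroup.commutator_mem_commutator hx hy
  rw [Subgroup.mem_bot, commutatorElement_eq_one_iff_mul_comm] at h
  exact h

variable [Finite G] [Finite Ω]

theorem swap_inverts (S : Setup G Ω i) {a b : Ω} (hab : a ≠ b) {s g : G} (hs : IsSwap s a b)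
    (hga : g • a = a) (hgb : g • b = b) : s * g * s⁻¹ = g⁻¹ := by
  have h1 : s * g * (s * g) = 1 :=
    (facts S).swap_sq a b _ hab ⟨by rw [mul_smul, hga, hs.1], by rw [mul_smul, hgb, hs.2]⟩
  rw [inv_eq_of_mul_eq_one_right ((facts S).swap_sq a b s hab hs)]
  exact eq_inv_of_mul_eq_one_left (by rw [← h1]; group)

theorem stab_comm (S : Setup G Ω i) {a b : Ω} (hab : a ≠ b) {g h : G}
    (hga : g • a = a) (hgb : g • b = b) (hha : h • a = a) (hhb : h • b = b) : Commute g h := by
  obtain ⟨s, hs⟩ := (facts S).swap_ex a b hab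
  have h1 := swap_inverts S hab hs (g := g * h) (by rw [mul_smul, hha, hga]) (by rw [mul_smul, hhb, hgb])
  have h2 : s * (g * h) * s⁻¹ = s * g * s⁻¹ * (s * h * s⁻¹) := by group
  rw [h2, swap_inverts S hab hs hga hgb, swap_inverts S hab hs hha hhb] at h1
  have := congrArg (fun z => z⁻¹) h1
  simp only [mul_inv_rev, inv_inv] at this
  exact this.symm

theorem inverts_fix {g u : G} (h : u * g * u⁻¹ = g⁻¹) {p : Ω} (hp : g • p = p) :
    g • u • p = u • p := by
  have : g⁻¹ • u • p = u • p := by rw [← h, mul_smul, mul_smul, inv_smul_smul, hp]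
  exact (inv_smul_eq_iff.1 this).symm

/-- the centraliser of an element with too many fixed points has odd order and is transitive on
them -/
theorem odd_fix (S : Setup G Ω i) {g : G} (hg : g ≠ 1)
    (h3 : 3 ≤ Nat.card {x : Ω // g • x = x}) (hne : Nat.card {x : Ω // g • x = x} ≠ i) :
    Odd (Nat.card {x : Ω // g • x = x}) := by
  classical
  haveI := Fintype.ofFinite Ω
  set C := Subgroup.centralizer ({g} : Set G)
  have hodd : Odd (Nat.card C) := by
    rw [← Nat.not_even_iff_odd, even_iff_two_dvd]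
    intro h
    obtain ⟨u, hu⟩ := exists_prime_orderOf_dvd_card' 2 h
    rw [← Subgroup.orderOf_coe] at hu
    exact hne ((facts S).fixi u g hu (Commute.symm (Subgroup.mem_centralizer_singleton_iff.1 u.2)) hg)
  obtain ⟨⟨a, ha⟩⟩ : Nonempty {x : Ω // g • x = x} := by
    by_contra h
    rw [not_nonempty_iff] at h
    rw [Nat.card_of_isEmpty] at h3
    omega
  have horb : orbit C a = {x : Ω | g • x = x} := by
    ext z
    constructor
    · rintro ⟨c, rfl⟩
      exact commute_smul_fix (Subgroup.mem_centralizer_singleton_iff.1 c.2) ha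
    · intro hz
      by_cases haz : a = z
      · exact haz ▸ mem_orbit_self a
      obtain ⟨y, hy, hya, hyz⟩ : ∃ y : Ω, g • y = y ∧ y ≠ a ∧ y ≠ z := by
        rw [Nat.card_eq_fintype_card, Fintype.card_subtype] at h3
        obtain ⟨y, hy⟩ : ((Finset.univ.filter fun x : Ω => g • x = x) \ {a, z}).Nonempty := by
          rw [← Finset.card_pos]
          have := Finset.le_card_sdiff ({a, z} : Finset Ω) (Finset.univ.filter fun x : Ω => g • x = x)
          have : ({a, z} : Finset Ω).card ≤ 2 := Finset.card_le_two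
          omega
        simp at hy
        exact ⟨y, hy.1, hy.2.1, hy.2.2⟩
      obtain ⟨s₁, hs₁⟩ := (facts S).swap_ex a y hya.symm
      obtain ⟨s₂, hs₂⟩ := (facts S).swap_ex y z hyz
      have e1 := swap_inverts S hya.symm hs₁ ha hy
      have e2 := swap_inverts S hyz hs₂ hy hz
      refine ⟨⟨s₂ * s₁, Subgroup.mem_centralizer_singleton_iff.2 ?_⟩, ?_⟩
      · have e3 : s₂ * g⁻¹ * s₂⁻¹ = g := by
          have := congrArg (fun w => w⁻¹) e2
          simpa [mul_assoc] using this
        have e4 : (s₂ * s₁) * g * (s₂ * s₁)⁻¹ = g := by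
          calc (s₂ * s₁) * g * (s₂ * s₁)⁻¹ = s₂ * (s₁ * g * s₁⁻¹) * s₂⁻¹ := by group
            _ = g := by rw [e1, e3]
        exact mul_inv_eq_iff_eq_mul.1 e4
      · show (s₂ * s₁) • a = z
        rw [mul_smul, hs₁.1, hs₂.1]
  have hdvd : Nat.card {x : Ω // g • x = x} ∣ Nat.card C := by
    have h := (stabilizer C a).index_mul_card
    rw [MulAction.index_stabilizer, horb, ← Nat.card_coe_set_eq] at h
    exact Dvd.intro _ h
  exact hodd.of_dvd_nat hdvd

/-- an involution inverting `g` permutes the fixed points of `g` -/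
theorem parity_on_fix {g u : G} (hu : orderOf u = 2) (hinv : u * g * u⁻¹ = g⁻¹) :
    Nat.card {x : Ω // g • x = x} % 2
      = Nat.card {x : Ω // g • x = x ∧ u • x = x} % 2 := by
  rw [involutive_parity (fun x : {x : Ω // g • x = x} => (⟨u • x.1, inverts_fix hinv x.2⟩ : {x : Ω // g • x = x}))
    (fun x => Subtype.ext (smul_smul_of_orderOf_two hu x.1))]
  congr 1
  refine Nat.card_congr ((Equiv.subtypeEquivRight fun x => ?_).trans
    (Equiv.subtypeSubtypeEquivSubtypeInter (fun x : Ω => g • x = x) (fun x => u • x = x)))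
  exact Subtype.ext_iff

theorem zero_case (S : Setup G Ω i) (hi : i = 0) {g : G} (hg : g ≠ 1)
    (h3 : 3 ≤ Nat.card {x : Ω // g • x = x}) : False := by
  have hodd := odd_fix S hg h3 (by omega)
  obtain ⟨p, q, hpq⟩ : ∃ p q : {x : Ω // g • x = x}, p ≠ q := by
    by_contra h
    push Not at h
    haveI : Subsingleton {x : Ω // g • x = x} := ⟨h⟩
    have := Finite.card_le_one_iff_subsingleton.2 (inferInstance : Subsingleton {x : Ω // g • x = x})
    omega
  have hpq' : p.1 ≠ q.1 := fun h => hpq (Subtype.ext h)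
  obtain ⟨s, hs⟩ := (facts S).swap_ex _ _ hpq'
  have hs1 : s ≠ 1 := fun e => hpq' (by rw [← hs.1, e, one_smul])
  have hs2 := orderOf_eq_two ((facts S).swap_sq _ _ _ hpq' hs) hs1
  have hinv := swap_inverts S hpq' hs p.2 q.2
  have h0 := (facts S).fixi s s hs2 (Commute.refl s) hs1
  rw [hi] at h0
  have he : IsEmpty {x : Ω // s • x = x} := (Finite.card_eq_zero_iff).1 h0
  haveI : IsEmpty {x : Ω // g • x = x ∧ s • x = x} := ⟨fun x => he.false ⟨x.1, x.2.2⟩⟩
  have hz : Nat.card {x : Ω // g • x = x ∧ s • x = x} = 0 := Nat.card_of_isEmpty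
  have := parity_on_fix (Ω := Ω) hs2 hinv
  rw [hz, Nat.zero_mod] at this
  rw [Nat.odd_iff] at hodd
  omega

theorem card_swaps (S : Setup G Ω i) {a b : Ω} (hab : a ≠ b) :
    Nat.card {g : G // IsSwap g a b} = Nat.card ↥(stabilizer G a ⊓ stabilizer G b) := by
  obtain ⟨s, hs⟩ := (facts S).swap_ex a b hab
  refine le_antisymm (card_coset_le (fun g => IsSwap g a b) fun g hg => hg) ?_
  refine Nat.card_le_card_of_injective
    (fun δ : ↥(stabilizer G a ⊓ stabilizer G b) => (⟨s * δ.1, ?_, ?_⟩ : {g : G // IsSwap g a b}))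
    fun δ ε e => Subtype.ext (mul_left_cancel (congrArg Subtype.val e))
  · rw [mul_smul, (Subgroup.mem_inf.1 δ.2).1, hs.1]
  · rw [mul_smul, (Subgroup.mem_inf.1 δ.2).2, hs.2]

theorem card_stab_eq (S : Setup G Ω i) {a b c d : Ω} (hab : a ≠ b) (hcd : c ≠ d) :
    Nat.card ↥(stabilizer G a ⊓ stabilizer G b) = Nat.card ↥(stabilizer G c ⊓ stabilizer G d) := by
  haveI : Nonempty (Pairs Ω) := ⟨⟨(a, b), hab⟩⟩
  exact Nat.eq_of_mul_eq_mul_left Nat.card_pos ((card_group S hab).symm.trans (card_group S hcd))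

theorem one_case (S : Setup G Ω i) (hi : i = 1) {g : G} (hg : g ≠ 1)
    (h3 : 3 ≤ Nat.card {x : Ω // g • x = x}) : HasRegular G Ω := by
  classical
  haveI := Fintype.ofFinite Ω
  haveI := Fintype.ofFinite G
  have hodd := odd_fix S hg h3 (by omega)
  obtain ⟨a₀, b₀, hab₀⟩ := exists_pair S
  set d := Nat.card ↥(stabilizer G a₀ ⊓ stabilizer G b₀) with hd
  -- every involution fixes exactly one point
  have hfix : ∀ u : G, orderOf u = 2 → ∃ a : Ω, u • a = a ∧ ∀ b : Ω, u • b = b → b = a := by
    intro u hu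
    have h := (facts S).fixi u u hu (Commute.refl u) (ne_one_of_orderOf_two hu)
    rw [hi, Nat.card_eq_one_iff_unique] at h
    obtain ⟨hss, ⟨⟨a, ha⟩⟩⟩ := h
    exact ⟨a, ha, fun b hb => congrArg Subtype.val (hss.elim (⟨b, hb⟩ : {p : Ω // u • p = p}) ⟨a, ha⟩)⟩
  let K : Ω → Type _ := fun a => {u : G // orderOf u = 2 ∧ u • a = a}
  have hX : ∀ P : Ω → Prop, Nat.card {u : G // orderOf u = 2 ∧ ∃ a : Ω, P a ∧ u • a = a}
      = ∑ a : {a // P a}, Nat.card (K a.1) := by
    intro P
    rw [← Nat.card_sigma]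
    refine (Nat.card_eq_of_bijective
      (fun s : (Σ a : {a // P a}, K a.1) =>
        (⟨s.2.1, s.2.2.1, s.1.1, s.1.2, s.2.2.2⟩ :
          {u : G // orderOf u = 2 ∧ ∃ a : Ω, P a ∧ u • a = a})) ⟨?_, ?_⟩).symm
    · rintro ⟨⟨a, ha⟩, u, hu, hua⟩ ⟨⟨b, hb⟩, v, hv, hvb⟩ e
      have e' : u = v := congrArg Subtype.val e
      subst e'
      obtain ⟨c, -, hc⟩ := hfix u hu
      obtain rfl : a = b := (hc a hua).trans (hc b hvb).symm
      rfl
    · rintro ⟨u, hu, a, ha, hua⟩
      exact ⟨⟨⟨a, ha⟩, u, hu, hua⟩, rfl⟩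
  haveI : MulAction.IsPretransitive G Ω :=
    haveI := S.h2
    MulAction.isPretransitive_of_is_two_pretransitive
  have hKconst : ∀ a : Ω, Nat.card (K a) = Nat.card (K a₀) := by
    intro a
    obtain ⟨k, rfl⟩ := MulAction.exists_smul_eq G a₀ a
    refine (Nat.card_congr ((MulAut.conj k).toEquiv.subtypeEquiv fun u => ?_)).symm
    show _ ↔ orderOf (k * u * k⁻¹) = 2 ∧ (k * u * k⁻¹) • k • a₀ = k • a₀
    rw [orderOf_conj, mul_smul, mul_smul, inv_smul_smul, smul_left_cancel_iff]
  have hK : ∀ a : Ω, Nat.card (K a) = d := by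
    intro a
    rw [hKconst]
    have hall := hX fun _ => True
    rw [Finset.sum_congr rfl (fun a _ => hKconst a.1), Finset.sum_const, @Finset.card_univ _ (_),
      smul_eq_mul, ← @Nat.card_eq_fintype_card _ (_), Nat.card_congr (Equiv.subtypeUnivEquiv fun _ => trivial)] at hall
    have e : Nat.card {x : G // orderOf x = 2} = Nat.card {u : G // orderOf u = 2 ∧ ∃ a : Ω, True ∧ u • a = a} :=
      Nat.card_congr (Equiv.subtypeEquivRight fun u =>
        ⟨fun hu => ⟨hu, let ⟨a, ha, _⟩ := hfix u hu; ⟨a, trivial, ha⟩⟩, fun h => h.1⟩)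
    have hc := (facts S).count a₀ b₀ hab₀
    rw [e, hall, card_pairs, ← hd, hi] at hc
    haveI : Nontrivial Ω := ⟨⟨a₀, b₀, hab₀⟩⟩
    have hn : 1 < Nat.card Ω := Finite.one_lt_card
    obtain ⟨k, hk⟩ : ∃ k, Nat.card Ω = k + 2 := ⟨Nat.card Ω - 2, by omega⟩
    rw [hk, show (k + 2) * (k + 2) - (k + 2) = (k + 2) * (k + 1) by
      rw [← Nat.mul_sub_one]; rfl, show k + 2 - 1 = k + 1 from rfl] at hc
    refine Nat.eq_of_mul_eq_mul_left (show 0 < (k + 2) * (k + 1) by positivity) ?_
    rw [← hc]; ring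
  -- the involutions inverting `g`
  let I := {u : G // orderOf u = 2 ∧ u * g * u⁻¹ = g⁻¹}
  have hIT : ∀ u : G, orderOf u = 2 → u * g * u⁻¹ = g⁻¹ → ∃ a : Ω, g • a = a ∧ u • a = a := by
    intro u hu hinv
    by_contra h
    push Not at h
    haveI : IsEmpty {x : Ω // g • x = x ∧ u • x = x} := ⟨fun x => h x.1 x.2.1 x.2.2⟩
    have hz : Nat.card {x : Ω // g • x = x ∧ u • x = x} = 0 := Nat.card_of_isEmpty
    have h' := parity_on_fix (Ω := Ω) hu hinv
    rw [hz, Nat.zero_mod] at h'
    rw [Nat.odd_iff] at hodd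
    omega
  have hcardI : Nat.card I = Nat.card {x : Ω // g • x = x} * d := by
    let Inc := {p : I × Pairs {x : Ω // g • x = x} // p.1.1 • p.2.1.1.1 = p.2.1.2.1}
    let e1 : Inc ≃ Σ u : I, {x : {y : Ω // g • y = y} // u.1 • x.1 ≠ x.1} :=
      { toFun := fun p => ⟨p.1.1, p.1.2.1.1, fun h => p.1.2.2 (Subtype.ext (h.symm.trans p.2))⟩
        invFun := fun s => ⟨(s.1, ⟨(s.2.1, ⟨s.1.1 • s.2.1.1, inverts_fix s.1.2.2 s.2.1.2⟩),
          fun h => s.2.2 (congrArg Subtype.val h).symm⟩), rfl⟩
        left_inv := by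
          rintro ⟨⟨u, ⟨⟨⟨a, ha⟩, ⟨b, hb⟩⟩, hab⟩⟩, h⟩
          simp only at h
          subst h
          rfl
        right_inv := fun s => rfl }
    let e2 : Inc ≃ Σ q : Pairs {x : Ω // g • x = x}, {u : G // IsSwap u q.1.1.1 q.1.2.1} :=
      { toFun := fun p => ⟨p.1.2, p.1.1.1, p.2, by rw [← p.2, smul_smul_of_orderOf_two p.1.1.2.1]⟩
        invFun := fun s => ⟨(⟨s.2.1,
          orderOf_eq_two ((facts S).swap_sq _ _ _ (fun h => s.1.2 (Subtype.ext h)) s.2.2)
            (fun e => s.1.2 (Subtype.ext (by rw [← s.2.2.1, e, one_smul]))),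
          swap_inverts S (fun h => s.1.2 (Subtype.ext h)) s.2.2 s.1.1.1.2 s.1.1.2.2⟩, s.1), s.2.2.1⟩
        left_inv := fun p => rfl
        right_inv := fun s => rfl }
    have h1 : Nat.card Inc = Nat.card I * (Nat.card {x : Ω // g • x = x} - 1) := by
      rw [Nat.card_congr e1, Nat.card_sigma, Finset.sum_congr rfl (g := fun _ => Nat.card {x : Ω // g • x = x} - 1),
        Finset.sum_const, Finset.card_univ, smul_eq_mul, Nat.card_eq_fintype_card (α := I)]
      intro u _
      rw [Nat.card_eq_fintype_card, Fintype.card_subtype_compl, Nat.card_eq_fintype_card]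
      congr 1
      rw [Fintype.card_eq_one_iff]
      obtain ⟨a, ha, hua⟩ := hIT u.1 u.2.1 u.2.2
      obtain ⟨c, -, hc⟩ := hfix u.1 u.2.1
      exact ⟨⟨⟨a, ha⟩, hua⟩, fun x => Subtype.ext (Subtype.ext ((hc _ x.2).trans (hc a hua).symm))⟩
    have h2 : Nat.card Inc = Nat.card (Pairs {x : Ω // g • x = x}) * d := by
      rw [Nat.card_congr e2, Nat.card_sigma, Finset.sum_congr rfl (g := fun _ => d),
        Finset.sum_const, Finset.card_univ, smul_eq_mul, Nat.card_eq_fintype_card (α := Pairs {x : Ω // g • x = x})]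
      intro q _
      have hq : q.1.1.1 ≠ q.1.2.1 := fun h => q.2 (Subtype.ext h)
      rw [card_swaps S hq, hd]
      exact card_stab_eq S hq hab₀
    rw [card_pairs, h1] at h2
    refine Nat.eq_of_mul_eq_mul_right (show 0 < Nat.card {x : Ω // g • x = x} - 1 by omega) ?_
    rw [h2, ← Nat.mul_sub_one]
    ring
  have hT : ∀ u : G, orderOf u = 2 → ∀ a : Ω, g • a = a → u • a = a → u * g * u⁻¹ = g⁻¹ := by
    intro u hu a ha hua
    let f : I → {u : G // orderOf u = 2 ∧ ∃ a : Ω, g • a = a ∧ u • a = a} :=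
      fun v => ⟨v.1, v.2.1, hIT v.1 v.2.1 v.2.2⟩
    have hc : Nat.card I = Nat.card {u : G // orderOf u = 2 ∧ ∃ a : Ω, g • a = a ∧ u • a = a} := by
      rw [hX fun a => g • a = a, Finset.sum_congr rfl (fun a _ => hK a.1), Finset.sum_const,
        Finset.card_univ, smul_eq_mul, ← Nat.card_eq_fintype_card, hcardI]
    obtain ⟨-, hsurj⟩ := (Nat.bijective_iff_injective_and_card f).2
      ⟨fun v w e => Subtype.ext (congrArg (fun z => z.1) e), hc⟩
    obtain ⟨v, hv⟩ := hsurj ⟨u, hu, a, ha, hua⟩
    have e : v.1 = u := congrArg Subtype.val hv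
    exact e ▸ v.2.2
  obtain ⟨⟨c₀, hc₀⟩⟩ : Nonempty {x : Ω // g • x = x} := by
    by_contra h
    rw [not_nonempty_iff] at h
    rw [Nat.card_of_isEmpty] at h3
    omega
  -- involutions fixing a point do not commute
  have hiso : ∀ u v : G, orderOf u = 2 → orderOf v = 2 → Commute u v → u = v := by
    intro u v hu hv huv
    obtain ⟨a, hua, hua'⟩ := hfix u hu
    have hva : v • a = a := hua' _ (commute_smul_fix huv.symm hua)
    obtain ⟨k, hk⟩ := MulAction.exists_smul_eq G a c₀
    set u' := k * u * k⁻¹ with hu'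
    set v' := k * v * k⁻¹ with hv'
    have hu2 : orderOf u' = 2 := (orderOf_conj k u).trans hu
    have hv2 : orderOf v' = 2 := (orderOf_conj k v).trans hv
    have e1 := hT u' hu2 c₀ hc₀ (by rw [hu', ← hk, mul_smul, mul_smul, inv_smul_smul, hua])
    have e2 := hT v' hv2 c₀ hc₀ (by rw [hv', ← hk, mul_smul, mul_smul, inv_smul_smul, hva])
    by_contra hne
    have hc' : Commute u' v' := by
      rw [hu', hv', ← MulAut.conj_apply, ← MulAut.conj_apply]
      exact huv.map (MulAut.conj k).toMonoidHom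
    have h1 : u' * v' ≠ 1 := fun e => hne (by
      have h := eq_inv_of_mul_eq_one_left e
      rw [inv_eq_self_of_orderOf_two hv2, hu', hv'] at h
      exact mul_left_cancel (mul_right_cancel h))
    have h2 : orderOf (u' * v') = 2 := orderOf_eq_two (by
      calc u' * v' * (u' * v') = u' * (v' * u') * v' := by group
        _ = u' * u' * (v' * v') := by rw [← hc'.eq]; group
        _ = 1 := by rw [mul_self_of_orderOf_two hu2, mul_self_of_orderOf_two hv2, one_mul]) h1
    have e3 : (u' * v') * g * (u' * v')⁻¹ = g := by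
      have e2' : u' * g⁻¹ * u'⁻¹ = g := by
        have := congrArg (fun w => w⁻¹) e1
        simpa [mul_assoc] using this
      calc (u' * v') * g * (u' * v')⁻¹ = u' * (v' * g * v'⁻¹) * u'⁻¹ := by group
        _ = g := by rw [e2, e2']
    have h4 := (facts S).fixi (u' * v') g h2 (Commute.symm (mul_inv_eq_iff_eq_mul.1 e3)) hg
    omega
  obtain ⟨t, ht, -⟩ := S.ex
  have hisol : Cfsg.IsIsolatedInvolution t :=
    ⟨ht, fun k hk => (hiso t _ ht ((orderOf_conj k t).trans ht) hk).symm⟩
  have hz := H85.zStar hisol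
  haveI : (Cfsg.pPrimeCore 2 G).Normal := H1.pPrimeCore_normal' 2 G
  have hO : Cfsg.pPrimeCore 2 G ≠ ⊥ := by
    intro hb
    obtain ⟨a, hta, hta'⟩ := hfix t ht
    have hall : ∀ k : G, k • a = a := by
      intro k
      have h := hz k
      rw [hb, Subgroup.mem_bot, mul_inv_eq_one, mul_inv_eq_iff_eq_mul] at h
      exact hta' _ (commute_smul_fix (show Commute k t from h.symm) hta)
    obtain ⟨k, hk⟩ := MulAction.exists_smul_eq G a₀ b₀
    obtain ⟨k', hk'⟩ := MulAction.exists_smul_eq G a a₀
    have := hall k'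
    have hh := hall (k * k')
    rw [mul_smul, hk', hk] at hh
    rw [this] at hk'
    exact hab₀ (hk'.symm.trans hh.symm)
  haveI : Fact (Nat.Prime 2) := ⟨Nat.prime_two⟩
  haveI : Group.IsSolvable (Cfsg.pPrimeCore 2 G) :=
    H16.FT.oddOrder (Nat.coprime_two_right.1 (H1.card_pPrimeCore_coprime 2 G))
  exact hasRegular_of_solvable S _ hO

theorem card_conj_pair (S : Setup G Ω i) (P : G → Prop) (hP : ∀ k x, P x → P (k * x * k⁻¹))
    {a b c d : Ω} (hab : a ≠ b) (hcd : c ≠ d) :
    Nat.card {x : G // P x ∧ x • a = a ∧ x • b = b} = Nat.card {x : G // P x ∧ x • c = c ∧ x • d = d} := by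
  obtain ⟨k, hk1, hk2⟩ := exists_move S hab hcd
  refine Nat.card_congr ((MulAut.conj k).toEquiv.subtypeEquiv fun x => ?_)
  show _ ↔ P (k * x * k⁻¹) ∧ (k * x * k⁻¹) • c = c ∧ (k * x * k⁻¹) • d = d
  refine and_congr ⟨hP k x, fun h => ?_⟩ ?_
  · simpa [mul_assoc] using hP k⁻¹ _ h
  · rw [← hk1, ← hk2, mul_smul, mul_smul, mul_smul, mul_smul, inv_smul_smul, inv_smul_smul,
      smul_left_cancel_iff, smul_left_cancel_iff]

theorem card_sq_one (P : G → Prop) (h1 : P 1) :
    Nat.card {x : G // x * x = 1 ∧ P x} = Nat.card {x : G // orderOf x = 2 ∧ P x} + 1 := by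
  classical
  haveI := Fintype.ofFinite G
  rw [Nat.card_eq_fintype_card, Nat.card_eq_fintype_card, Fintype.card_subtype, Fintype.card_subtype]
  rw [show (Finset.univ.filter fun x : G => x * x = 1 ∧ P x)
      = insert 1 (Finset.univ.filter fun x : G => orderOf x = 2 ∧ P x) from ?_]
  · rw [Finset.card_insert_of_notMem (by simp)]
  · ext x
    simp only [Finset.mem_filter, Finset.mem_univ, true_and, Finset.mem_insert]
    constructor
    · intro h
      by_cases hx : x = 1
      · exact Or.inl hx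
      · exact Or.inr ⟨orderOf_eq_two h.1 hx, h.2⟩
    · rintro (rfl | h)
      · exact ⟨one_mul 1, h1⟩
      · exact ⟨mul_self_of_orderOf_two h.1, h.2⟩

/-- the pair stabilisers inside the fixed points of an involution -/
theorem fixed_pair (S : Setup G Ω i) (hi : 2 ≤ i) {t : G} (ht : orderOf t = 2) {a b : Ω}
    (hab : a ≠ b) (hta : t • a = a) (htb : t • b = b) :
    (∀ g : G, Commute g t → g • a = a → g • b = b) ∧
    (∀ g : G, g • a = a → g • b = b → Commute g t) ∧
    Nat.card {x : G // x * x = 1 ∧ x • a = a ∧ x • b = b} = i ∧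
    Nat.card Ω = Nat.card ↥(stabilizer G a ⊓ stabilizer G b) * i + i := by
  classical
  haveI := Fintype.ofFinite Ω
  haveI := Fintype.ofFinite G
  set C := Subgroup.centralizer ({t} : Set G)
  set d := Nat.card ↥(stabilizer G a ⊓ stabilizer G b) with hd
  set m := Nat.card {x : G // orderOf x = 2 ∧ x • a = a ∧ x • b = b} with hm
  set c := Nat.card C with hc
  set n := Nat.card Ω with hn
  have hcn : c + i = n := (facts S).card_cen t ht
  have hcpos : 0 < c := Nat.card_pos
  have hcomm : ∀ g : G, g • a = a → g • b = b → Commute g t :=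
    fun g h1 h2 => stab_comm S hab h1 h2 hta htb
  have hFc : ∀ g : G, orderOf g = 2 → Nat.card {p : Ω // g • p = p} = i :=
    fun g hg => (facts S).fixi g g hg (Commute.refl g) (ne_one_of_orderOf_two hg)
  -- `|X| i (i - 1) = n (n - 1) m`
  have hcount : Nat.card {x : G // orderOf x = 2} * (i * i - i) = Nat.card (Pairs Ω) * m := by
    let Inc := {p : {x : G // orderOf x = 2} × Pairs Ω //
      p.1.1 • p.2.1.1 = p.2.1.1 ∧ p.1.1 • p.2.1.2 = p.2.1.2}
    let e1 : Inc ≃ Σ x : {x : G // orderOf x = 2}, Pairs {p : Ω // x.1 • p = p} :=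
      { toFun := fun p => ⟨p.1.1, ⟨(⟨p.1.2.1.1, p.2.1⟩, ⟨p.1.2.1.2, p.2.2⟩),
          fun h => p.1.2.2 (congrArg Subtype.val h)⟩⟩
        invFun := fun s => ⟨(s.1, ⟨(s.2.1.1.1, s.2.1.2.1), fun h => s.2.2 (Subtype.ext h)⟩),
          s.2.1.1.2, s.2.1.2.2⟩
        left_inv := fun p => rfl
        right_inv := fun s => rfl }
    let e2 : Inc ≃ Σ q : Pairs Ω, {x : G // orderOf x = 2 ∧ x • q.1.1 = q.1.1 ∧ x • q.1.2 = q.1.2} :=
      { toFun := fun p => ⟨p.1.2, p.1.1.1, p.1.1.2, p.2⟩
        invFun := fun s => ⟨(⟨s.2.1, s.2.2.1⟩, s.1), s.2.2.2⟩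
        left_inv := fun p => rfl
        right_inv := fun s => rfl }
    have h1 : Nat.card Inc = Nat.card {x : G // orderOf x = 2} * (i * i - i) := by
      rw [Nat.card_congr e1, Nat.card_sigma, Finset.sum_congr rfl (g := fun _ => i * i - i),
        Finset.sum_const, Finset.card_univ, smul_eq_mul,
        Nat.card_eq_fintype_card (α := {x : G // orderOf x = 2})]
      intro x _
      rw [card_pairs, hFc x.1 x.2]
    rw [← h1, Nat.card_congr e2, Nat.card_sigma, Finset.sum_congr rfl (g := fun _ => m),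
      Finset.sum_const, Finset.card_univ, smul_eq_mul, Nat.card_eq_fintype_card (α := Pairs Ω)]
    intro q _
    exact card_conj_pair S (fun x => orderOf x = 2) (fun k x hx => (orderOf_conj k x).trans hx) q.2 hab
  haveI : Nonempty (Pairs Ω) := ⟨⟨(a, b), hab⟩⟩
  have hrel : c * m = d * (i * i - i) := by
    refine Nat.eq_of_mul_eq_mul_left (Nat.card_pos (α := Pairs Ω)) ?_
    rw [← mul_assoc, mul_comm (Nat.card (Pairs Ω)) c, mul_assoc, ← hcount, ← mul_assoc,
      ← mul_assoc, mul_comm c, ← (facts S).count a b hab, show n - i = c by omega]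
  -- the stabilisers in `C`
  have hsmul : ∀ (g : C) (p : Ω), g • p = (g : G) • p := fun g p => rfl
  have hCiff : ∀ g : G, g ∈ C ↔ Commute g t := fun g => Subgroup.mem_centralizer_singleton_iff
  have hout : ∀ p : Ω, t • p ≠ p → Nat.card {g : C // g • p = p} = m + 1 := by
    intro p hp
    rw [hm, ← card_sq_one (fun x : G => x • a = a ∧ x • b = b) ⟨one_smul _ _, one_smul _ _⟩]
    rw [card_conj_pair S (fun x : G => x * x = 1)
      (fun k x hx => by rw [show k * x * k⁻¹ * (k * x * k⁻¹) = k * (x * x) * k⁻¹ by group, hx]; group)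
      hab (Ne.symm hp)]
    refine Nat.card_congr ((Equiv.subtypeEquivRight fun g => by rw [hsmul]).trans
      ((Equiv.subtypeSubtypeEquivSubtypeInter (fun g : G => g ∈ C) (fun g => g • p = p)).trans
      (Equiv.subtypeEquivRight fun g => ?_)))
    have hsw : IsSwap t p (t • p) := ⟨rfl, smul_smul_of_orderOf_two ht p⟩
    rw [hCiff]
    constructor
    · rintro ⟨hgt, hgp⟩
      have hgq : g • t • p = t • p := by rw [← mul_smul, hgt.eq, mul_smul, hgp]
      refine ⟨?_, hgp, hgq⟩
      have h := swap_inverts S (Ne.symm hp) hsw hgp hgq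
      rw [← hgt.eq, mul_assoc, mul_inv_cancel, mul_one] at h
      exact eq_inv_iff_mul_eq_one.1 h
    · rintro ⟨hgg, hgp, hgq⟩
      refine ⟨?_, hgp⟩
      have h := swap_inverts S (Ne.symm hp) hsw hgp hgq
      rw [inv_eq_of_mul_eq_one_right hgg, mul_inv_eq_iff_eq_mul] at h
      exact h.symm
  -- `C` is transitive on the fixed points of `t`
  have hin : ∀ p : Ω, t • p = p → i * Nat.card {g : C // g • p = p} = c := by
    intro p hp
    have horb : orbit C p = {z : Ω | t • z = z} := by
      ext z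
      constructor
      · rintro ⟨g, rfl⟩
        exact commute_smul_fix ((hCiff g.1).1 g.2) hp
      · intro hz
        by_cases hpz : p = z
        · exact hpz ▸ mem_orbit_self p
        · obtain ⟨s, hs⟩ := (facts S).swap_ex p z hpz
          refine ⟨⟨s, (hCiff s).2 ?_⟩, hs.1⟩
          have h := swap_inverts S hpz hs hp hz
          rw [inv_eq_self_of_orderOf_two ht, mul_inv_eq_iff_eq_mul] at h
          exact h
    have h := (stabilizer C p).index_mul_card
    rw [MulAction.index_stabilizer, horb, ← Nat.card_coe_set_eq] at h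
    rw [hc, ← h]
    exact congrArg₂ (· * ·) (hFc t ht).symm rfl
  set ca := Nat.card {g : C // g • a = a} with hca
  have hmi : m + 1 = i := by
    have hB := sum_fix_eq_sum_stab (G := C) (Ω := Ω)
    have hlhs : ∑ g : C, Nat.card {p : Ω // g • p = p} = n + (c - 1) * i := by
      rw [← Finset.add_sum_erase _ _ (Finset.mem_univ (1 : C))]
      congr 1
      · exact Nat.card_congr (Equiv.subtypeUnivEquiv fun p => one_smul C p)
      · rw [Finset.sum_congr rfl (g := fun _ => i), Finset.sum_const,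
          Finset.card_erase_of_mem (Finset.mem_univ _), Finset.card_univ, smul_eq_mul, hc,
          Nat.card_eq_fintype_card]
        intro g hg
        exact (facts S).fixi t g.1 ht ((hCiff g.1).1 g.2)
          fun e => Finset.ne_of_mem_erase hg (Subtype.ext e)
    have hrhs : ∑ p : Ω, Nat.card {g : C // g • p = p} = c + c * (m + 1) := by
      rw [← Finset.sum_filter_add_sum_filter_not Finset.univ (fun p : Ω => t • p = p)]
      congr 1
      · rw [Finset.sum_congr rfl (g := fun _ => ca), Finset.sum_const, smul_eq_mul]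
        · rw [← Fintype.card_subtype, ← Nat.card_eq_fintype_card, hFc t ht]
          exact hin a hta
        · intro p hp
          refine Nat.eq_of_mul_eq_mul_left (show 0 < i by omega) ?_
          rw [hin p (Finset.mem_filter.1 hp).2, hca, hin a hta]
      · rw [Finset.sum_congr rfl (g := fun _ => m + 1), Finset.sum_const, smul_eq_mul]
        · rw [← Fintype.card_subtype, Fintype.card_subtype_compl, ← Nat.card_eq_fintype_card,
            ← Nat.card_eq_fintype_card, hFc t ht, ← hn, show n - i = c by omega]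
        · intro p hp
          exact hout p (Finset.mem_filter.1 hp).2
    rw [hlhs, hrhs] at hB
    refine Nat.eq_of_mul_eq_mul_left hcpos ?_
    have : (c - 1) * i + i = c * i := by
      rw [Nat.sub_mul, one_mul, Nat.sub_add_cancel (Nat.le_mul_of_pos_left _ hcpos)]
    omega
  have hcd : c = d * i := by
    refine Nat.eq_of_mul_eq_mul_right (show 0 < m by omega) ?_
    rw [hrel, mul_assoc, ← hmi, show (m + 1) * (m + 1) - (m + 1) = (m + 1) * m by
      rw [← Nat.mul_sub_one]; rfl]
  refine ⟨?_, hcomm, ?_, by omega⟩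
  · intro g hg hga
    let f : ↥(stabilizer G a ⊓ stabilizer G b) → {g : C // g • a = a} := fun x =>
      ⟨⟨x.1, (hCiff x.1).2 (hcomm x.1 (Subgroup.mem_inf.1 x.2).1 (Subgroup.mem_inf.1 x.2).2)⟩,
        (Subgroup.mem_inf.1 x.2).1⟩
    have hcard : d = ca := by
      refine Nat.eq_of_mul_eq_mul_left (show 0 < i by omega) ?_
      rw [hca, hin a hta, hcd, mul_comm]
    obtain ⟨-, hsurj⟩ := (Nat.bijective_iff_injective_and_card f).2
      ⟨fun x y e => Subtype.ext (congrArg (fun z => (z.1 : G)) e), hcard⟩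
    obtain ⟨x, hx⟩ := hsurj ⟨⟨g, (hCiff g).2 hg⟩, hga⟩
    have e : (x : G) = g := congrArg (fun z => (z.1 : G)) hx
    exact e ▸ (Subgroup.mem_inf.1 x.2).2
  · rw [card_sq_one (fun x : G => x • a = a ∧ x • b = b) ⟨one_smul _ _, one_smul _ _⟩]
    exact hmi

theorem many_case (S : Setup G Ω i) (hi : 2 ≤ i) : i = 2 ∧
    ∀ g : G, ∀ a b c : Ω, a ≠ b → b ≠ c → a ≠ c → g • a = a → g • b = b → g • c = c → g = 1 := by
  classical
  haveI := Fintype.ofFinite Ω
  haveI := Fintype.ofFinite G
  obtain ⟨t, ht, -⟩ := S.ex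
  have hFt : Nat.card {p : Ω // t • p = p} = i :=
    (facts S).fixi t t ht (Commute.refl t) (ne_one_of_orderOf_two ht)
  obtain ⟨⟨a, hta⟩, ⟨b, htb⟩, hab'⟩ : ∃ p q : {p : Ω // t • p = p}, p ≠ q := by
    by_contra h
    push Not at h
    haveI : Subsingleton {p : Ω // t • p = p} := ⟨h⟩
    have := Finite.card_le_one_iff_subsingleton.2 (inferInstance : Subsingleton {p : Ω // t • p = p})
    omega
  have hab : a ≠ b := fun e => hab' (Subtype.ext e)
  obtain ⟨-, hcomm, hsq, hn⟩ := fixed_pair S hi ht hab hta htb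
  -- an element of `G_ab` fixes all fixed points of `t`
  have hall : ∀ g : G, Commute g t → g • a = a → ∀ e : Ω, t • e = e → g • e = e := by
    intro g hg hga e he
    by_cases hae : a = e
    · rw [← hae, hga]
    · exact (fixed_pair S hi ht hae hta he).1 g hg hga
  have hi2 : i = 2 := by
    by_contra hne
    have hi3 : 3 ≤ i := by omega
    obtain ⟨e, he, hea, heb⟩ : ∃ e : Ω, t • e = e ∧ e ≠ a ∧ e ≠ b := by
      rw [Nat.card_eq_fintype_card, Fintype.card_subtype] at hFt
      obtain ⟨y, hy⟩ : ((Finset.univ.filter fun x : Ω => t • x = x) \ {a, b}).Nonempty := by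
        rw [← Finset.card_pos]
        have := Finset.le_card_sdiff ({a, b} : Finset Ω) (Finset.univ.filter fun x : Ω => t • x = x)
        have : ({a, b} : Finset Ω).card ≤ 2 := Finset.card_le_two
        omega
      simp at hy
      exact ⟨y, hy.1, hy.2.1, hy.2.2⟩
    have hswapC : ∀ p q : Ω, p ≠ q → t • p = p → t • q = q → ∀ s, IsSwap s p q → Commute s t := by
      intro p q hpq hp hq s hs
      have h := swap_inverts S hpq hs hp hq
      rw [inv_eq_self_of_orderOf_two ht, mul_inv_eq_iff_eq_mul] at h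
      exact h
    have hmove : ∀ g : G, Commute g t → g • a ≠ a → g * g = 1 ∧
        ∀ δ : G, Commute δ t → δ • a = a → g * δ * g⁻¹ = δ⁻¹ := by
      intro g hg hga
      have hga' : t • g • a = g • a := commute_smul_fix hg hta
      obtain ⟨s, hs⟩ := (facts S).swap_ex a (g • a) (Ne.symm hga)
      have hst := hswapC _ _ (Ne.symm hga) hta hga' s hs
      have hfix : (s⁻¹ * g) • a = a := by
        rw [mul_smul, inv_smul_eq_iff, hs.1]
      have hfix' := hall (s⁻¹ * g) (hst.inv_left.mul_left hg) hfix _ hga'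
      have hsw : IsSwap g a (g • a) := ⟨rfl, by
        rw [mul_smul, inv_smul_eq_iff] at hfix'
        exact hfix'.trans hs.2⟩
      exact ⟨(facts S).swap_sq _ _ _ (Ne.symm hga) hsw,
        fun δ hδ hδa => swap_inverts S (Ne.symm hga) hsw hδa (hall δ hδ hδa _ hga')⟩
    have hexp : ∀ g : G, Commute g t → g * g = 1 := by
      intro g hg
      by_cases hga : g • a = a
      · obtain ⟨s₁, hs₁⟩ := (facts S).swap_ex a b hab
        obtain ⟨s₂, hs₂⟩ := (facts S).swap_ex a e (Ne.symm hea)
        have c1 := hswapC _ _ hab hta htb s₁ hs₁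
        have c2 := hswapC _ _ (Ne.symm hea) hta he s₂ hs₂
        have hm : (s₂ * s₁) • a ≠ a := by
          rw [mul_smul, hs₁.1]
          intro h
          exact heb (MulAction.injective s₂ (hs₂.2.trans h.symm))
        have e1 := swap_inverts S hab hs₁ hga (hall g hg hga b htb)
        have e2 := swap_inverts S (Ne.symm hea) hs₂ hga (hall g hg hga e he)
        have e2' : s₂ * g⁻¹ * s₂⁻¹ = g := by
          have := congrArg (fun w => w⁻¹) e2
          simpa [mul_assoc] using this
        have e3 : (s₂ * s₁) * g * (s₂ * s₁)⁻¹ = g := by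
          calc (s₂ * s₁) * g * (s₂ * s₁)⁻¹ = s₂ * (s₁ * g * s₁⁻¹) * s₂⁻¹ := by group
            _ = g := by rw [e1, e2']
        rw [(hmove _ (c2.mul_left c1) hm).2 g hg hga] at e3
        exact inv_eq_iff_mul_eq_one.1 e3
      · exact (hmove g hg hga).1
    set d := Nat.card ↥(stabilizer G a ⊓ stabilizer G b) with hd
    have hdi : d = i := by
      rw [← hsq, hd]
      exact Nat.card_congr (Equiv.subtypeEquivRight fun g => by
        rw [Subgroup.mem_inf, mem_stabilizer_iff, mem_stabilizer_iff]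
        exact ⟨fun h => ⟨hexp g (hcomm g h.1 h.2), h⟩, fun h => h.2⟩)
    have hc : ∀ u : G, orderOf u = 2 → Nat.card (Subgroup.centralizer ({u} : Set G)) = i * i := by
      intro u hu
      have := (facts S).card_cen u hu
      rw [hn, hdi] at this
      omega
    have hexp' : ∀ u g : G, orderOf u = 2 → Commute g u → g * g = 1 := by
      intro u g hu hgu
      obtain ⟨k, hk⟩ := isConj_iff.1 ((facts S).conj t u ht hu)
      subst hk
      have h' : Commute (k⁻¹ * g * k) t := by
        show k⁻¹ * g * k * t = t * (k⁻¹ * g * k)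
        calc k⁻¹ * g * k * t = k⁻¹ * (g * (k * t * k⁻¹)) * k := by group
          _ = k⁻¹ * ((k * t * k⁻¹) * g) * k := by rw [hgu.eq]
          _ = t * (k⁻¹ * g * k) := by group
      have h := hexp _ h'
      calc g * g = k * (k⁻¹ * g * k * (k⁻¹ * g * k)) * k⁻¹ := by group
        _ = 1 := by rw [h]; group
    let X := {u : G // orderOf u = 2}
    let Cen : X → Subgroup G := fun u => Subgroup.centralizer ({u.1} : Set G)
    have hfib : ∀ u : X, Nat.card {v : X // Cen v = Cen u} = i * i - 1 := by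
      intro u
      have hmem : ∀ v : X, Cen v = Cen u → v.1 ∈ Cen u := fun v h =>
        h ▸ Subgroup.mem_centralizer_singleton_iff.2 rfl
      let f : {v : X // Cen v = Cen u} → {g : Cen u // g ≠ 1} := fun v =>
        ⟨⟨v.1.1, hmem v.1 v.2⟩, fun e => ne_one_of_orderOf_two v.1.2 (congrArg Subtype.val e)⟩
      have hf : Function.Bijective f := by
        refine ⟨fun v w e => Subtype.ext (Subtype.ext (congrArg (fun z => (z.1 : G)) e)), ?_⟩
        rintro ⟨⟨g, hg⟩, hg1⟩
        have hg' : Commute g u.1 := Subgroup.mem_centralizer_singleton_iff.1 hg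
        have hg2 : orderOf g = 2 :=
          orderOf_eq_two (hexp' u.1 g u.2 hg') fun e => hg1 (Subtype.ext e)
        refine ⟨⟨⟨g, hg2⟩, ?_⟩, rfl⟩
        refine (Subgroup.eq_of_le_of_card_ge (fun h hh => ?_) ?_).symm
        · have h1 : Commute h u.1 := Subgroup.mem_centralizer_singleton_iff.1 hh
          have hh2 := hexp' u.1 h u.2 h1
          have hgh := hexp' u.1 (h * g) u.2 (h1.mul_left hg')
          refine Subgroup.mem_centralizer_singleton_iff.2 ?_
          have := eq_inv_of_mul_eq_one_left hgh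
          rw [mul_inv_rev, inv_eq_of_mul_eq_one_right hh2, inv_eq_self_of_orderOf_two hg2] at this
          exact this
        · show Nat.card (Subgroup.centralizer ({g} : Set G)) ≤ Nat.card (Subgroup.centralizer ({u.1} : Set G))
          rw [hc g hg2, hc u.1 u.2]
      rw [Nat.card_eq_of_bijective f hf, Nat.card_eq_fintype_card, Fintype.card_subtype_compl,
        Fintype.card_subtype_eq, ← Nat.card_eq_fintype_card]
      show Nat.card (Subgroup.centralizer ({u.1} : Set G)) - 1 = _
      rw [hc u.1 u.2]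
    obtain ⟨R, hR⟩ : ∃ R, Nat.card X = R * (i * i - 1) := by
      refine ⟨Nat.card (Set.range Cen), ?_⟩
      rw [← Nat.card_congr (Equiv.sigmaFiberEquiv (Set.rangeFactorization Cen)), Nat.card_sigma,
        Finset.sum_congr rfl (g := fun _ => i * i - 1), Finset.sum_const, Finset.card_univ,
        smul_eq_mul, ← Nat.card_eq_fintype_card]
      rintro ⟨_, u, rfl⟩ _
      rw [← hfib u]
      exact Nat.card_congr (Equiv.subtypeEquivRight fun v => by
        simp [Set.rangeFactorization, Subtype.ext_iff])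
    have hN := (facts S).count a b hab
    rw [card_pairs, ← hd, hn, hdi, show (Nat.card {x : G // orderOf x = 2}) = Nat.card X from rfl,
      hR] at hN
    obtain ⟨j, rfl⟩ : ∃ j, i = j + 3 := ⟨i - 3, by omega⟩
    set I' := j + 3 with hI'
    have hI1 : (I' + 1) * (j + 2) = I' * I' - 1 := by
      rw [hI']; symm; apply Nat.sub_eq_of_eq_add; ring
    have hI2 : (I' * I' + I') * (I' * I' + I') - (I' * I' + I')
        = (I' + 1) * I' * (I' * I' + I' - 1) := by
      rw [← Nat.mul_sub_one]; ring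
    rw [Nat.add_sub_cancel, ← hI1, hI2] at hN
    have key : R * (j + 2) = I' * I' + I' - 1 := by
      refine Nat.eq_of_mul_eq_mul_left (show 0 < (I' + 1) * I' * I' by rw [hI']; positivity) ?_
      linear_combination hN
    have h2 : I' * I' + I' - 1 = (j + 5) * (j + 2) + 1 := by
      rw [hI']; apply Nat.sub_eq_of_eq_add; ring
    rw [h2] at key
    have hd1 : j + 2 ∣ (j + 5) * (j + 2) + 1 := ⟨R, by rw [← key, mul_comm]⟩
    rw [Nat.dvd_add_right (dvd_mul_left _ _)] at hd1
    have := Nat.le_of_dvd one_pos hd1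
    omega
  refine ⟨hi2, ?_⟩
  intro g p q r hpq hqr hpr hp hq hr
  by_contra hg
  obtain ⟨k, hk1, hk2⟩ := exists_move S hpq hab
  set g' := k * g * k⁻¹ with hg'
  have e1 : g' • a = a := by rw [hg', ← hk1, mul_smul, mul_smul, inv_smul_smul, hp]
  have e2 : g' • b = b := by rw [hg', ← hk2, mul_smul, mul_smul, inv_smul_smul, hq]
  have e3 : g' • k • r = k • r := by rw [hg', mul_smul, mul_smul, inv_smul_smul, hr]
  have h := (facts S).fixi t g' ht (hcomm g' e1 e2) (fun e => hg (conj_eq_one_iff.1 e))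
  rw [hi2, Nat.card_eq_fintype_card, Fintype.card_subtype] at h
  have hsub : ({a, b, k • r} : Finset Ω) ⊆ Finset.univ.filter fun x : Ω => g' • x = x := by
    intro x hx
    simp only [Finset.mem_insert, Finset.mem_singleton] at hx
    rcases hx with rfl | rfl | rfl <;> simp [e1, e2, e3]
  have h3 := Finset.card_le_card hsub
  rw [h, Finset.card_insert_of_notMem, Finset.card_pair] at h3
  · omega
  · rw [← hk2]; exact (MulAction.injective k).ne hqr
  · simp only [Finset.mem_insert, Finset.mem_singleton, not_or]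
    exact ⟨hab, by rw [← hk1]; exact (MulAction.injective k).ne hpr⟩

/-- No three points are fixed, unless there is a regular normal subgroup. -/
theorem regular_or_three (S : Setup G Ω i) : HasRegular G Ω ∨
    ∀ g : G, ∀ a b c : Ω, a ≠ b → b ≠ c → a ≠ c → g • a = a → g • b = b → g • c = c → g = 1 := by
  classical
  rcases le_or_gt 2 i with hi | hi
  · exact Or.inr (many_case S hi).2
  by_cases hex : ∃ g : G, g ≠ 1 ∧ 3 ≤ Nat.card {x : Ω // g • x = x}
  · obtain ⟨g, hg, h3⟩ := hex
    rcases Nat.le_one_iff_eq_zero_or_eq_one.1 (show i ≤ 1 by omega) with h | h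
    · exact (zero_case S h hg h3).elim
    · exact Or.inl (one_case S h hg h3)
  · push Not at hex
    refine Or.inr fun g a b c hab hbc hac ha hb hc => ?_
    by_contra hg
    haveI := Fintype.ofFinite Ω
    have h := hex g hg
    rw [Nat.card_eq_fintype_card, Fintype.card_subtype] at h
    have hsub : ({a, b, c} : Finset Ω) ⊆ Finset.univ.filter fun x : Ω => g • x = x := by
      intro x hx
      simp only [Finset.mem_insert, Finset.mem_singleton] at hx
      rcases hx with rfl | rfl | rfl <;> simp [ha, hb, hc]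
    have h3 := Finset.card_le_card hsub
    rw [Finset.card_insert_of_notMem (by simp [hab, hac]), Finset.card_pair hbc] at h3
    omega

end H20.Semireg
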