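import Cfsg.Agent.H66.ZassClassify
import Cfsg.Agent.H11.SzUniq.Iso

/-!
The classification of simple Zassenhaus groups, up to isomorphism.
-/

set_option autoImplicit false

open Cfsg

namespace H20.Semireg

open MulAction H66.Feit

universe u v

/-- classification of simple Zassenhaus groups, with the Suzuki groups up to isomorphism
(after `H66.Feit.classify`) -/
theorem classify_iso {G : Type u} {Ω : Type v} [Group G] [Finite G] [MulAction G Ω] [Finite Ω]
    (hZ : Cfsg.IsZassenhausGroup G Ω) [IsSimpleGroup G] :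
    (∃ (F : Type) (_ : Field F) (_ : Fintype F),
      Nonempty (G ≃* Matrix.ProjectiveSpecialLinearGroup (Fin 2) F)) ∨ Cfsg.Lie.IsoSuzuki G := by
  classical
  letI := Fintype.ofFinite Ω
  letI := Fintype.ofFinite G
  obtain ⟨hfaith, h2, h3, ⟨g₀, hg₀, a, b, hab, hga, hgb⟩, -⟩ := id hZ
  set H := stabilizer G a ⊓ stabilizer G b with hHdef
  rcases Nat.even_or_odd (Nat.card H) with heven | hodd
  · obtain ⟨F, i1, i2, -, e⟩ := Cfsg.Agent.S0344.result hZ hab heven
    exact Or.inl ⟨F, i1, i2, e⟩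
  obtain ⟨U, hUle, hU1, hnorm, hreg, hΩ, hcardA, hC, hdec, hfix, hTI, hnil⟩ := kernel_props hZ hab
  set d := Nat.card H with hd
  have hd1 : d ≠ 1 := fun h => hg₀ (by
    have hm : g₀ ∈ H := Subgroup.mem_inf.mpr ⟨hga, hgb⟩
    rwa [Subgroup.card_eq_one.mp h, Subgroup.mem_bot] at hm)
  have hd3 : 3 ≤ d := by
    obtain ⟨k, hk⟩ := hodd
    omega
  have hpp := isPrimePow_degree hZ
  rw [← Nat.card_eq_fintype_card, hΩ, Nat.add_sub_cancel, isPrimePow_nat_iff] at hpp
  obtain ⟨p, k, hp, hk, hpk⟩ := hpp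
  haveI := Fact.mk hp
  have hUn : ∀ h ∈ stabilizer G a, ∀ u ∈ U, h * u * h⁻¹ ∈ U := fun h hh u hu => by
    rw [← hnorm] at hh
    exact (Subgroup.mem_normalizer_iff.mp hh u).mp hu
  have hreg' : ∀ c e : Ω, c ≠ a → e ≠ a → ∃! u : U, (u : G) • c = e := fun c e hc he =>
    hreg c hc e he
  by_cases hp2 : p = 2
  · subst hp2
    have hU2 : IsPGroup 2 U := IsPGroup.of_card hpk.symm
    by_cases hUab : ∀ u ∈ U, ∀ u' ∈ U, u * u' = u' * u
    · obtain ⟨v, hva, hCtx⟩ := H66.ZS.exists_ctx_of_ne_bot hZ hab hUle hUn hreg' hU2 hU1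
      have hcard := H66.ZS.ab_card hCtx hUab
      have hH2 : H66.R1.twoPt G a v = H := by
        show stabilizer G a ⊓ stabilizer G (v • a) = _
        rw [hva]
      rw [hH2, ← hd] at hcard
      have hΩ' : Fintype.card Ω = d + 2 := by rw [← Nat.card_eq_fintype_card, hΩ, hcard]
      have hinj : Function.Injective (MulAction.toPermHom G Ω) := MulAction.toPerm_injective
      have h3t := three_pretransitive hZ hab hΩ'.symm
      obtain ⟨j, -, -, F, iF, iFt, hF, ⟨e₀⟩⟩ := H18.sharp_three_odd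
        (G := (MulAction.toPermHom G Ω).range) (α := Ω) (by omega)
        (by rw [hΩ']; exact hodd.add_even (by decide))
        ⟨fun x y => by
          obtain ⟨g, hg⟩ := h3t.exists_smul_eq x y
          exact ⟨⟨_, g, rfl⟩, hg⟩⟩
        (fun g x y z hxy hxz hyz hx hy hz => by
          obtain ⟨_, g, rfl⟩ := g
          have := h3 g x y z hxy hyz hxz hx hy hz
          subst this
          exact Subtype.ext (map_one _))
      have e := (MonoidHom.ofInjective hinj).trans e₀
      haveI : CharP F 2 := by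
        obtain ⟨q, hq⟩ := CharP.exists F
        obtain ⟨n, hq', hcardF⟩ := FiniteField.card F q
        rw [hF] at hcardF
        have hdvd : q ∣ 2 ^ j := hcardF ▸ dvd_pow_self q (PNat.ne_zero n)
        have : q = 2 := (Nat.prime_dvd_prime_iff_eq hq' Nat.prime_two).mp (hq'.dvd_of_dvd_pow hdvd)
        exact this ▸ hq
      obtain ⟨e'⟩ := H64.psl2_char2_equiv (F := F)
      exact Or.inl ⟨F, iF, iFt, ⟨e.trans e'⟩⟩
    · push Not at hUab
      obtain ⟨u, hu, w, hw, hne⟩ := hUab
      exact Or.inr (H11.SzUniq.zassenhaus_isoSuzuki hZ hab U hUle hUn hreg' hU2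
        ⟨u, hu, w, hw, hne⟩)
  -- `|U|` odd
  set L := Subgroup.normalizer (U : Set G) with hL
  have hUL : U ≤ L := Subgroup.le_normalizer
  letI : Fintype ↥L := Fintype.ofFinite _
  haveI hKn : (U.subgroupOf L).Normal := Subgroup.normal_in_normalizer
  have hKcard : Nat.card (U.subgroupOf L) = Nat.card U :=
    Nat.card_congr (Subgroup.subgroupOfEquivOfLe hUL).toEquiv
  have hLcard : Nat.card L = Nat.card U * d := by rw [hnorm, hcardA]
  have hdidx : (U.subgroupOf L).index = d := by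
    refine Nat.eq_of_mul_eq_mul_left (Nat.card_pos (α := U.subgroupOf L)) ?_
    rw [Subgroup.card_mul_index, hLcard, hKcard]
  have hlt : U < L := by
    refine lt_of_le_of_ne hUL fun h => ?_
    have h1 : Nat.card L = Nat.card U := by rw [← h]
    rw [hLcard] at h1
    have := Nat.mul_le_mul_left (Nat.card U) hd3
    have : 0 < Nat.card U := Nat.card_pos
    omega
  have hpodd : Odd (Nat.card U) := by
    rw [← hpk]
    exact (hp.odd_of_ne_two hp2).pow
  rcases H16.feit_sibley U hU1 hnil hTI hlt hC with ⟨-, hcard, -⟩ | ⟨h2pow, -⟩ | hcoh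
  · rw [hdidx] at hcard
    exact absurd hpodd (Nat.not_odd_iff_even.mpr (hcard ▸ hodd.add_one))
  · exfalso
    rcases Nat.eq_zero_or_pos ((Nat.card G).factorization 2) with h | h
    · rw [h, pow_zero] at h2pow; exact hU1 (Subgroup.card_eq_one.mp h2pow)
    · exact absurd hpodd (Nat.not_odd_iff_even.mpr (h2pow ▸ Nat.even_pow.mpr ⟨even_two, h.ne'⟩))
  obtain ⟨hcyc, v, hv, hva, hvb, hvinv⟩ := H66.Sharp.cyclic_inverted hZ hab
  have hcommH : ∀ x ∈ H, ∀ y ∈ H, x * y = y * x := fun x hx y hy => by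
    haveI := hcyc
    letI := IsCyclic.commGroup (α := H)
    exact congrArg Subtype.val (mul_comm (⟨x, hx⟩ : H) ⟨y, hy⟩)
  have hab' : ∀ x y : ↥L, ((x * y * x⁻¹ * y⁻¹ : ↥L) : G) ∈ U := by
    have hmk : ∀ z : ↥L, ∃ k : ↥L, (k : G) ∈ H ∧
        (z : ↥L ⧸ U.subgroupOf L) = (k : ↥L ⧸ U.subgroupOf L) := fun z => by
      obtain ⟨u, hu, h, hh, e⟩ := hdec (z : G) (hnorm ▸ z.2)
      refine ⟨⟨h, hnorm.symm ▸ (Subgroup.mem_inf.mp hh).1⟩, hh, ?_⟩
      rw [show z = (⟨u, hUL hu⟩ : ↥L) * ⟨h, hnorm.symm ▸ (Subgroup.mem_inf.mp hh).1⟩ from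
        Subtype.ext e, QuotientGroup.mk_mul,
        (QuotientGroup.eq_one_iff _).mpr (Subgroup.mem_subgroupOf.mpr hu), one_mul]
    intro x y
    obtain ⟨x', hx', ex⟩ := hmk x
    obtain ⟨y', hy', ey⟩ := hmk y
    rw [← Subgroup.mem_subgroupOf (H := U) (h := x * y * x⁻¹ * y⁻¹), ← QuotientGroup.eq_one_iff,
      QuotientGroup.mk_mul, QuotientGroup.mk_mul, QuotientGroup.mk_mul, QuotientGroup.mk_inv,
      QuotientGroup.mk_inv, ex, ey, ← QuotientGroup.mk_mul,
      show x' * y' = y' * x' from Subtype.ext (hcommH _ hx' _ hy'), QuotientGroup.mk_mul]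
    group
  have hindex : L.index = Nat.card U + 1 := by
    haveI := MulAction.isPretransitive_of_is_two_pretransitive (G := G) (α := Ω)
    rw [hnorm, index_stabilizer_of_transitive, hΩ]
  have hle := index_le_two U hTI hC hnil hab' (fun g u hu hu1 h => by
    have h' : g⁻¹ * u * g ∈ stabilizer G a := hnorm ▸ h
    show g ∈ L
    rw [hnorm]
    exact hfix g u hu hu1 h') hindex hdidx hd3 hcoh
  -- `|U| = 2 d + 1`
  obtain ⟨β, hβ⟩ := H16.frob_index_dvd (U.subgroupOf L) (H16.centralizer_subgroupOf U hC) ⊥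
  rw [Subgroup.relIndex_bot_left, hKcard, hdidx] at hβ
  have hβ2 : β = 2 := by
    have hpos : 1 < Nat.card U := by
      rw [← hpk]; exact Nat.one_lt_pow hk.ne' hp.one_lt
    have h3 : β < 3 := Nat.lt_of_mul_lt_mul_left (a := d) (by omega)
    interval_cases β
    · omega
    · exfalso
      rw [show Nat.card U = d + 1 by omega] at hpodd
      exact Nat.not_odd_iff_even.mpr hodd.add_one hpodd
    · rfl
  subst hβ2
  obtain ⟨K, iK, iKt, -, -, e⟩ := H59.half_PSL hZ hab (s := v)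
    (by rw [← Nat.card_eq_fintype_card, hΩ, ← hd]; omega) hva hvb
    (H66.mul_self_of_orderOf_two hv) hcommH hvinv
  exact Or.inl ⟨K, iK, iKt, e⟩

end H20.Semireg
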