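import Mathlib

/-!
Doubly transitive groups in which every non-identity element of the centraliser of some
involution fixes the same number `i` of points: the counting.
-/

set_option autoImplicit false
set_option linter.unusedSectionVars false

namespace H20.Semireg

open MulAction

variable {G Ω : Type*} [Group G] [MulAction G Ω]

/-- double counting of the fixed pairs `(g, p)` -/
theorem sum_fix_eq_sum_stab [Fintype G] [Fintype Ω] :
    ∑ g : G, Nat.card {p : Ω // g • p = p} = ∑ p : Ω, Nat.card {g : G // g • p = p} := by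
  classical
  simp only [Nat.card_eq_fintype_card, Fintype.card_subtype, Finset.card_filter]
  exact Finset.sum_comm

theorem involutive_parity {α : Type*} [Finite α] (f : α → α) (hf : Function.Involutive f) :
    Nat.card α % 2 = Nat.card {x : α // f x = x} % 2 := by
  classical
  haveI := Fintype.ofFinite α
  haveI : Fact (Nat.Prime 2) := ⟨Nat.prime_two⟩
  have hσ : (hf.toPerm f) ^ 2 ^ 1 = 1 := by
    rw [pow_one, pow_two]; ext x; exact hf x
  have h := Equiv.Perm.card_compl_support_modEq (p := 2) hσ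
  have e : (hf.toPerm f).supportᶜ = Finset.univ.filter fun x => f x = x := by
    ext x; simp [Function.Involutive.toPerm]
  rw [e] at h
  rw [Nat.card_eq_fintype_card, Nat.card_eq_fintype_card, Fintype.card_subtype]
  exact h.symm

theorem mul_self_of_orderOf_two {x : G} (hx : orderOf x = 2) : x * x = 1 := by
  rw [← pow_two, ← hx, pow_orderOf_eq_one]

theorem inv_eq_self_of_orderOf_two {x : G} (hx : orderOf x = 2) : x⁻¹ = x :=
  inv_eq_of_mul_eq_one_right (mul_self_of_orderOf_two hx)

theorem ne_one_of_orderOf_two {x : G} (hx : orderOf x = 2) : x ≠ 1 := by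
  rintro rfl
  simp at hx

theorem orderOf_eq_two {x : G} (hx : x * x = 1) (hx1 : x ≠ 1) : orderOf x = 2 :=
  orderOf_eq_prime (by rw [pow_two, hx]) hx1

theorem smul_smul_of_orderOf_two {x : G} (hx : orderOf x = 2) (a : Ω) : x • x • a = a := by
  rw [← mul_smul, mul_self_of_orderOf_two hx, one_smul]

theorem orderOf_conj (g x : G) : orderOf (g * x * g⁻¹) = orderOf x :=
  (MulAut.conj g).orderOf_eq x

/-- fixed points of a conjugate -/
def fixConjEquiv (g x : G) : {p : Ω // x • p = p} ≃ {p : Ω // (g * x * g⁻¹) • p = p} :=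
  (MulAction.toPerm g).subtypeEquiv fun p => by
    simp only [MulAction.toPerm_apply]
    rw [mul_smul, mul_smul, inv_smul_smul, smul_left_cancel_iff]

theorem card_fix_conj (g x : G) :
    Nat.card {p : Ω // (g * x * g⁻¹) • p = p} = Nat.card {p : Ω // x • p = p} :=
  Nat.card_congr (fixConjEquiv g x).symm

theorem commute_smul_fix {g x : G} (h : Commute g x) {p : Ω} (hp : x • p = p) :
    x • g • p = g • p := by
  rw [← mul_smul, ← h.eq, mul_smul, hp]

/-- `g` exchanges `a` and `b` -/
def IsSwap (g : G) (a b : Ω) : Prop := g • a = b ∧ g • b = a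

variable (G Ω) in
/-- the hypothesis: a doubly transitive group, an involution `t`, and every non-identity element
commuting with `t` fixes exactly `i` points -/
structure Setup (i : ℕ) : Prop where
  faithful : FaithfulSMul G Ω
  h2 : MulAction.IsMultiplyPretransitive G Ω 2
  ex : ∃ t : G, orderOf t = 2 ∧
    ∀ g : G, Commute g t → g ≠ 1 → Nat.card {x : Ω // g • x = x} = i

variable {i : ℕ}

theorem exists_pair (S : Setup G Ω i) : ∃ a b : Ω, a ≠ b := by
  obtain ⟨t, ht, -⟩ := S.ex
  haveI := S.faithful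
  by_contra h
  push Not at h
  exact ne_one_of_orderOf_two ht (eq_of_smul_eq_smul fun a : Ω => h _ _)

theorem exists_move (S : Setup G Ω i) {a b c d : Ω} (h : a ≠ b) (h' : c ≠ d) :
    ∃ g : G, g • a = c ∧ g • b = d :=
  (MulAction.is_two_pretransitive_iff.1 S.h2) h h'

theorem eq_one_of_fix_all (S : Setup G Ω i) {g : G} (h : ∀ p : Ω, g • p = p) : g = 1 :=
  haveI := S.faithful
  eq_of_smul_eq_smul fun p => by rw [h p, one_smul]

variable [Finite Ω]

theorem card_fix_lt (S : Setup G Ω i) {g : G} (hg : g ≠ 1) :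
    Nat.card {p : Ω // g • p = p} < Nat.card Ω := by
  refine lt_of_le_of_ne (Finite.card_subtype_le _) fun h => hg (eq_one_of_fix_all S fun p => ?_)
  obtain ⟨-, hsurj⟩ := (Nat.bijective_iff_injective_and_card
    (Subtype.val : {p : Ω // g • p = p} → Ω)).2 ⟨Subtype.val_injective, h⟩
  obtain ⟨⟨q, hq⟩, rfl⟩ := hsurj p
  exact hq

/-- ordered pairs of distinct points -/
abbrev Pairs (Ω : Type*) := {q : Ω × Ω // q.1 ≠ q.2}

theorem card_pairs (α : Type*) [Finite α] :
    Nat.card (Pairs α) = Nat.card α * Nat.card α - Nat.card α := by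
  classical
  haveI := Fintype.ofFinite α
  rw [Nat.card_eq_fintype_card, Nat.card_eq_fintype_card, Fintype.card_subtype]
  have e : (Finset.univ.filter fun q : α × α => q.1 ≠ q.2) = Finset.univ.offDiag := by
    ext ⟨x, y⟩; simp
  rw [e, Finset.offDiag_card, Finset.card_univ]

variable [Finite G]

theorem card_group (S : Setup G Ω i) {a b : Ω} (hab : a ≠ b) :
    Nat.card G = Nat.card (Pairs Ω) * Nat.card ↥(stabilizer G a ⊓ stabilizer G b) := by
  have e : stabilizer G (a, b) = stabilizer G a ⊓ stabilizer G b := by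
    ext g; simp [Subgroup.mem_inf, Prod.ext_iff]
  have ho : orbit G (a, b) = {q : Ω × Ω | q.1 ≠ q.2} := by
    ext ⟨c, d⟩
    constructor
    · rintro ⟨g, hg⟩
      obtain ⟨h1, h2⟩ := Prod.ext_iff.1 hg
      show c ≠ d
      rw [← show g • a = c from h1, ← show g • b = d from h2]
      exact (MulAction.injective g).ne hab
    · intro hcd
      obtain ⟨g, h1, h2⟩ := exists_move S hab hcd
      exact ⟨g, Prod.ext h1 h2⟩
  rw [← e, ← Subgroup.index_mul_card (stabilizer G (a, b)), MulAction.index_stabilizer,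
    ho, ← Nat.card_coe_set_eq]
  rfl

/-- the elements with given images of two points form a coset of the pair stabiliser -/
theorem card_coset_le {a b c d : Ω} (P : G → Prop) (hP : ∀ g, P g → g • a = c ∧ g • b = d) :
    Nat.card {g : G // P g} ≤ Nat.card ↥(stabilizer G a ⊓ stabilizer G b) := by
  rcases isEmpty_or_nonempty {g : G // P g} with h | ⟨⟨g₀, hg₀⟩⟩
  · simp
  obtain ⟨e1, e2⟩ := hP g₀ hg₀
  refine Nat.card_le_card_of_injective
    (fun g : {g : G // P g} => (⟨g₀⁻¹ * g.1, ?_⟩ : ↥(stabilizer G a ⊓ stabilizer G b))) ?_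
  · obtain ⟨f1, f2⟩ := hP g.1 g.2
    refine Subgroup.mem_inf.2 ⟨?_, ?_⟩
    · rw [mem_stabilizer_iff, mul_smul, f1, ← e1, inv_smul_smul]
    · rw [mem_stabilizer_iff, mul_smul, f2, ← e2, inv_smul_smul]
  · intro g h e
    exact Subtype.ext (mul_left_cancel (congrArg Subtype.val e))

/-- Everything obtained from the counting. -/
structure Facts (S : Setup G Ω i) : Prop where
  conj : ∀ x y : G, orderOf x = 2 → orderOf y = 2 → IsConj x y
  fixi : ∀ x g : G, orderOf x = 2 → Commute g x → g ≠ 1 →
    Nat.card {p : Ω // g • p = p} = i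
  card_cen : ∀ x : G, orderOf x = 2 →
    Nat.card (Subgroup.centralizer ({x} : Set G)) + i = Nat.card Ω
  swap_sq : ∀ (a b : Ω) (g : G), a ≠ b → IsSwap g a b → g * g = 1
  swap_ex : ∀ a b : Ω, a ≠ b → ∃ g : G, IsSwap g a b
  /-- `|X| (n - i) = n (n - 1) d` -/
  count : ∀ a b : Ω, a ≠ b →
    Nat.card {x : G // orderOf x = 2} * (Nat.card Ω - i)
      = Nat.card (Pairs Ω) * Nat.card ↥(stabilizer G a ⊓ stabilizer G b)

theorem centralizer_card_le (S : Setup G Ω i) {t : G} (ht : orderOf t = 2)
    (hC : ∀ g : G, Commute g t → g ≠ 1 → Nat.card {x : Ω // g • x = x} = i) :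
    Nat.card (Subgroup.centralizer ({t} : Set G)) ∣ Nat.card Ω - i ∧ i < Nat.card Ω := by
  classical
  haveI := Fintype.ofFinite Ω
  haveI := Fintype.ofFinite G
  have hti : i < Nat.card Ω := by
    rw [← hC t (Commute.refl t) (ne_one_of_orderOf_two ht)]
    exact card_fix_lt S (ne_one_of_orderOf_two ht)
  refine ⟨?_, hti⟩
  set C := Subgroup.centralizer ({t} : Set G)
  have hB := MulAction.sum_card_fixedBy_eq_card_orbits_mul_card_group C Ω
  set o := Fintype.card (Quotient (MulAction.orbitRel C Ω))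
  have hsum : ∑ g : C, Fintype.card (fixedBy Ω g) = Fintype.card Ω + (Fintype.card C - 1) * i := by
    rw [← Finset.add_sum_erase _ _ (Finset.mem_univ (1 : C))]
    congr 1
    · exact Fintype.card_congr ((Equiv.setCongr (fixedBy_one_eq_univ Ω C)).trans (Equiv.Set.univ Ω))
    · rw [Finset.sum_congr rfl (g := fun _ => i), Finset.sum_const,
        Finset.card_erase_of_mem (Finset.mem_univ _), Finset.card_univ, smul_eq_mul]
      intro g hg
      rw [← Nat.card_eq_fintype_card]
      have hg1 : (g : G) ≠ 1 := fun e => Finset.ne_of_mem_erase hg (Subtype.ext e)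
      exact hC (g : G) (Subgroup.mem_centralizer_singleton_iff.1 g.2) hg1
  rw [hsum] at hB
  rw [Nat.card_eq_fintype_card] at hti ⊢
  rw [Nat.card_eq_fintype_card]
  have hc : 0 < Fintype.card C := Fintype.card_pos
  refine ⟨o - i, ?_⟩
  have h1 : (Fintype.card C - 1) * i + i = Fintype.card C * i := by
    conv_rhs => rw [← Nat.sub_add_cancel hc]
    rw [Nat.succ_eq_add_one]
    ring
  rw [Nat.mul_sub, mul_comm (Fintype.card C) o]
  omega

theorem facts (S : Setup G Ω i) : Facts S := by
  classical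
  haveI := Fintype.ofFinite Ω
  haveI := Fintype.ofFinite G
  obtain ⟨t, ht, hC⟩ := S.ex
  obtain ⟨hdvd, hlt⟩ := centralizer_card_le S ht hC
  set n := Nat.card Ω with hn
  set c := Nat.card (Subgroup.centralizer ({t} : Set G)) with hc
  let X := {x : G // IsConj t x}
  have hX2 : ∀ x : X, orderOf x.1 = 2 := fun x => by
    obtain ⟨g, hg⟩ := isConj_iff.1 x.2
    rw [← hg, orderOf_conj, ht]
  have hXfix : ∀ x : X, Nat.card {p : Ω // x.1 • p = p} = i := fun x => by
    obtain ⟨g, hg⟩ := isConj_iff.1 x.2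
    rw [← hg, card_fix_conj]
    exact hC t (Commute.refl t) (ne_one_of_orderOf_two ht)
  -- `|G| = |X| c`
  have hGX : Nat.card G = Nat.card X * c := by
    have e : stabilizer (ConjAct G) t = Subgroup.centralizer {ConjAct.toConjAct t} :=
      ConjAct.stabilizer_eq_centralizer t
    have ho : orbit (ConjAct G) t = {x | IsConj t x} := by
      ext x
      rw [ConjAct.mem_orbit_conjAct]
      exact isConj_comm
    have h1 := (stabilizer (ConjAct G) t).index_mul_card
    rw [MulAction.index_stabilizer, ho, ← Nat.card_coe_set_eq] at h1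
    rw [show Nat.card G = Nat.card (ConjAct G) from rfl, ← h1, e]
    rfl
  -- the set of incidences `(x, (a, b))`, `x • a = b`
  let Inc := {p : X × Pairs Ω // p.1.1 • p.2.1.1 = p.2.1.2}
  have hInc1 : Nat.card Inc = Nat.card X * (n - i) := by
    let e : Inc ≃ Σ x : X, {a : Ω // x.1 • a ≠ a} :=
      { toFun := fun p => ⟨p.1.1, p.1.2.1.1, fun h => p.1.2.2 (h.symm.trans p.2)⟩
        invFun := fun s => ⟨(s.1, ⟨(s.2.1, s.1.1 • s.2.1), Ne.symm s.2.2⟩), rfl⟩
        left_inv := by
          rintro ⟨⟨x, ⟨⟨a, b⟩, hab⟩⟩, h⟩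
          simp only at h
          subst h
          rfl
        right_inv := fun s => rfl }
    rw [Nat.card_congr e, Nat.card_sigma, Finset.sum_congr rfl (g := fun _ => n - i),
      Finset.sum_const, Finset.card_univ, smul_eq_mul, Nat.card_eq_fintype_card (α := X)]
    intro x _
    have := hXfix x
    rw [Nat.card_eq_fintype_card, Fintype.card_subtype_compl, hn, Nat.card_eq_fintype_card]
    rw [Nat.card_eq_fintype_card] at this
    rw [this]
  obtain ⟨a₀, b₀, hab₀⟩ := exists_pair S
  let Sw : Ω → Ω → Type _ := fun a b => {g : G // IsConj t g ∧ g • a = b}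
  set s := Nat.card (Sw a₀ b₀) with hs
  have hSw : ∀ a b : Ω, a ≠ b → Nat.card (Sw a b) = s := fun a b hab => by
    obtain ⟨g, g1, g2⟩ := exists_move S hab₀ hab
    refine (Nat.card_congr ((MulAut.conj g).toEquiv.subtypeEquiv fun x => ?_)).symm
    show _ ↔ IsConj t (g * x * g⁻¹) ∧ (g * x * g⁻¹) • a = b
    refine and_congr ⟨fun h => h.trans (isConj_iff.2 ⟨g, rfl⟩),
      fun h => h.trans (isConj_iff.2 ⟨g, rfl⟩).symm⟩ ?_
    rw [← g1, ← g2, mul_smul, mul_smul, inv_smul_smul, smul_left_cancel_iff]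
  have hInc2 : Nat.card Inc = Nat.card (Pairs Ω) * s := by
    let e : Inc ≃ Σ q : Pairs Ω, Sw q.1.1 q.1.2 :=
      { toFun := fun p => ⟨p.1.2, p.1.1.1, p.1.1.2, p.2⟩
        invFun := fun s => ⟨(⟨s.2.1, s.2.2.1⟩, s.1), s.2.2.2⟩
        left_inv := fun p => rfl
        right_inv := fun s => rfl }
    rw [Nat.card_congr e, Nat.card_sigma, Finset.sum_congr rfl (g := fun _ => s),
      Finset.sum_const, Finset.card_univ, smul_eq_mul, Nat.card_eq_fintype_card (α := Pairs Ω)]
    exact fun q _ => hSw _ _ q.2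
  have hswap : ∀ (a b : Ω) (x : G), IsConj t x → x • a = b → IsSwap x a b := by
    intro a b x hx hxab
    exact ⟨hxab, by rw [← hxab, smul_smul_of_orderOf_two (hX2 ⟨x, hx⟩)]⟩
  set d := Nat.card ↥(stabilizer G a₀ ⊓ stabilizer G b₀) with hd
  have hG := card_group S hab₀
  rw [hGX] at hG
  haveI : Nonempty (Pairs Ω) := ⟨⟨(a₀, b₀), hab₀⟩⟩
  have hMpos : 0 < Nat.card (Pairs Ω) := Nat.card_pos
  have hsd : s ≤ d := card_coset_le (fun g => IsConj t g ∧ g • a₀ = b₀)
    fun g hg => hswap a₀ b₀ g hg.1 hg.2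
  have hcn : c ≤ n - i := Nat.le_of_dvd (by omega) hdvd
  -- `s c = d (n - i)`
  have hkey : s * c = d * (n - i) := by
    refine Nat.eq_of_mul_eq_mul_left hMpos ?_
    rw [← mul_assoc, ← hInc2, hInc1, ← mul_assoc, ← hG]
    ring
  have hcpos : 0 < c := Nat.card_pos
  have hdpos : 0 < d := Nat.card_pos
  have hseq : s = d := by
    refine le_antisymm hsd (Nat.le_of_mul_le_mul_right ?_ hcpos)
    rw [hkey]
    exact Nat.mul_le_mul_left d hcn
  have hceq : c = n - i := by
    rw [hseq] at hkey
    exact Nat.eq_of_mul_eq_mul_left hdpos hkey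
  have hd_indep : ∀ a b : Ω, a ≠ b → Nat.card ↥(stabilizer G a ⊓ stabilizer G b) = d := by
    intro a b hab
    have h1 := card_group S hab₀
    rw [card_group S hab] at h1
    exact Nat.eq_of_mul_eq_mul_left hMpos h1
  have hswapX : ∀ (a b : Ω) (g : G), a ≠ b → IsSwap g a b → IsConj t g := by
    intro a b g hab hg
    have h1 : Nat.card (Sw a b) = Nat.card {h : G // IsSwap h a b} := by
      refine le_antisymm (Nat.card_le_card_of_injective
        (fun h : Sw a b => (⟨h.1, hswap a b h.1 h.2.1 h.2.2⟩ : {h : G // IsSwap h a b}))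
        fun h k e => Subtype.ext (congrArg (fun z : {h : G // IsSwap h a b} => z.1) e)) ?_
      rw [hSw a b hab, hseq, ← hd_indep a b hab]
      exact card_coset_le (fun h => IsSwap h a b) fun h hh => hh
    obtain ⟨-, hsurj⟩ := (Nat.bijective_iff_injective_and_card
      (fun h : Sw a b => (⟨h.1, hswap a b h.1 h.2.1 h.2.2⟩ : {h : G // IsSwap h a b}))).2
      ⟨fun h k e => Subtype.ext (congrArg (fun z : {h : G // IsSwap h a b} => z.1) e), h1⟩
    obtain ⟨h, he⟩ := hsurj ⟨g, hg⟩
    have : h.1 = g := congrArg Subtype.val he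
    exact this ▸ h.2.1
  have hall : ∀ x : G, orderOf x = 2 → IsConj t x := by
    intro x hx
    haveI := S.faithful
    obtain ⟨a, ha⟩ : ∃ a : Ω, x • a ≠ a := by
      by_contra h
      push Not at h
      exact ne_one_of_orderOf_two hx (eq_one_of_fix_all S h)
    exact hswapX a (x • a) x (Ne.symm ha) ⟨rfl, smul_smul_of_orderOf_two hx a⟩
  refine ⟨fun x y hx hy => (hall x hx).symm.trans (hall y hy), ?_, ?_, ?_, ?_, ?_⟩
  · intro x g hx hgx hg1
    obtain ⟨k, hk⟩ := isConj_iff.1 (hall x hx)
    subst hk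
    have hc' : Commute (k⁻¹ * g * k) t := by
      show k⁻¹ * g * k * t = t * (k⁻¹ * g * k)
      calc k⁻¹ * g * k * t = k⁻¹ * (g * (k * t * k⁻¹)) * k := by group
        _ = k⁻¹ * ((k * t * k⁻¹) * g) * k := by rw [hgx.eq]
        _ = t * (k⁻¹ * g * k) := by group
    have h1 := hC _ hc' (fun e => hg1 (calc
      g = k * (k⁻¹ * g * k) * k⁻¹ := by group
      _ = 1 := by rw [e]; group))
    rw [← h1, ← card_fix_conj (Ω := Ω) k (k⁻¹ * g * k)]
    congr 1
    simp [mul_assoc]
  · intro x hx
    obtain ⟨k, hk⟩ := isConj_iff.1 (hall x hx)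
    subst hk
    have e : Subgroup.centralizer ({k * t * k⁻¹} : Set G)
        = (Subgroup.centralizer ({t} : Set G)).map (MulAut.conj k).toMonoidHom := by
      ext g
      rw [Subgroup.mem_map_equiv, Subgroup.mem_centralizer_singleton_iff,
        Subgroup.mem_centralizer_singleton_iff]
      simp only [MulAut.conj_symm_apply]
      constructor <;> intro h
      · calc k⁻¹ * g * k * t = k⁻¹ * (g * (k * t * k⁻¹)) * k := by group
          _ = k⁻¹ * ((k * t * k⁻¹) * g) * k := by rw [h]
          _ = t * (k⁻¹ * g * k) := by group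
      · calc g * (k * t * k⁻¹) = k * (k⁻¹ * g * k * t) * k⁻¹ := by group
          _ = k * (t * (k⁻¹ * g * k)) * k⁻¹ := by rw [h]
          _ = k * t * k⁻¹ * g := by group
    rw [e, Nat.card_congr (Subgroup.equivMapOfInjective _ _ (MulAut.conj k).injective).symm.toEquiv]
    omega
  · intro a b g hab hg
    exact mul_self_of_orderOf_two (hX2 ⟨g, hswapX a b g hab hg⟩)
  · intro a b hab
    obtain ⟨⟨x, hx, hxab⟩⟩ : Nonempty (Sw a b) := by
      by_contra h
      rw [not_nonempty_iff] at h
      have := hSw a b hab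
      rw [Nat.card_of_isEmpty, hseq] at this
      omega
    exact ⟨x, hswap a b x hx hxab⟩
  · intro a b hab
    rw [hd_indep a b hab, ← hseq, ← hInc2, hInc1]
    congr 1
    exact Nat.card_congr (Equiv.subtypeEquivRight fun x => ⟨hall x, fun h => hX2 ⟨x, h⟩⟩)

end H20.Semireg
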