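import Cfsg.Agent.H20.Semireg.Cases
import Cfsg.Agent.H20.Semireg.ClassifyIso
import Cfsg.Agent.H58.SharplyTwo

/-!
Doubly transitive groups in which every non-identity element of the centraliser of some
involution fixes the same number of points: PSL(2,q), a Suzuki group, or a regular normal
subgroup.
-/

set_option autoImplicit false
set_option linter.style.haveILetI false

namespace H20.Semireg

open MulAction

variable {G Ω : Type*} [Group G] [MulAction G Ω] [Finite G] [Finite Ω] {i : ℕ}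

theorem hasRegular_of_sharp (S : Setup G Ω i)
    (hfix : ∀ (g : G) (a b : Ω), a ≠ b → g • a = a → g • b = b → g = 1) : HasRegular G Ω := by
  haveI := Fintype.ofFinite Ω
  obtain ⟨a, b, hab⟩ := exists_pair S
  have hn : 2 ≤ Fintype.card Ω := Fintype.one_lt_card_iff.2 ⟨a, b, hab⟩
  obtain ⟨N, hN, hmem, -, -, -, hreg, -⟩ := H58.sharplyTwo_kernel S.h2 hfix hn
  refine ⟨N, hN, fun x y => ?_, fun x r hr hrx => ?_⟩
  · obtain ⟨r, ⟨hr, e⟩, -⟩ := hreg x y
    exact ⟨r, hr, e⟩
  · rcases (hmem r).1 hr with h | h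
    · exact h
    · exact absurd hrx (h x)

theorem isSimple_of_zassenhaus (S : Setup G Ω i) (hZ : Cfsg.IsZassenhausGroup G Ω) :
    IsSimpleGroup G := by
  obtain ⟨a, b, hab⟩ := exists_pair S
  obtain ⟨t, ht, -⟩ := S.ex
  haveI : Nontrivial G := ⟨⟨t, 1, ne_one_of_orderOf_two ht⟩⟩
  refine ⟨fun N hN => or_iff_not_imp_left.2 fun hne => ?_⟩
  haveI := hN
  have h2N := (H56.normal_zassenhaus hZ N hne).2.1
  haveI : Fact (Nat.Prime 2) := ⟨Nat.prime_two⟩
  obtain ⟨w, hwa, hwb⟩ := (MulAction.is_two_pretransitive_iff.1 h2N) hab hab.symm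
  have hwsw : IsSwap (w : G) a b := ⟨hwa, hwb⟩
  have hw1 : (w : G) ≠ 1 := fun e => hab (by rw [← hwsw.1, e, one_smul])
  have hw2 := orderOf_eq_two ((facts S).swap_sq a b _ hab hwsw) hw1
  have hinv : ∀ x : G, orderOf x = 2 → x ∈ N := fun x hx => by
    obtain ⟨k, hk⟩ := isConj_iff.1 ((facts S).conj (w : G) x hw2 hx)
    rw [← hk]
    exact hN.conj_mem _ w.2 k
  have hD : ∀ δ : G, δ • a = a → δ • b = b → δ ∈ N := by
    intro δ ha hb
    have hsw : IsSwap ((w : G) * δ) a b :=
      ⟨by rw [mul_smul, ha, hwsw.1], by rw [mul_smul, hb, hwsw.2]⟩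
    have h1 : (w : G) * δ ≠ 1 := fun e => hab (by rw [← hsw.1, e, one_smul])
    have h := hinv _ (orderOf_eq_two ((facts S).swap_sq a b _ hab hsw) h1)
    exact (Subgroup.mul_mem_cancel_left N w.2).1 h
  refine (Subgroup.eq_top_iff' N).2 fun g => ?_
  obtain ⟨h, ha, hb⟩ := (MulAction.is_two_pretransitive_iff.1 h2N) hab
    ((MulAction.injective g).ne hab)
  have hha : (h : G) • a = g • a := ha
  have hhb : (h : G) • b = g • b := hb
  have := hD ((h : G)⁻¹ * g) (by rw [mul_smul, ← hha, inv_smul_smul])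
    (by rw [mul_smul, ← hhb, inv_smul_smul])
  exact (Subgroup.mul_mem_cancel_left N (inv_mem h.2)).1 this

theorem main (S : Setup G Ω i) :
    (∃ (F : Type) (_ : Field F) (_ : Fintype F),
      Nonempty (G ≃* Matrix.ProjectiveSpecialLinearGroup (Fin 2) F)) ∨
    Cfsg.Lie.IsoSuzuki G ∨ HasRegular G Ω := by
  by_cases hreg : HasRegular G Ω
  · exact Or.inr (Or.inr hreg)
  have h3 := (regular_or_three S).resolve_left hreg
  by_cases hfix : ∀ (g : G) (a b : Ω), a ≠ b → g • a = a → g • b = b → g = 1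
  · exact absurd (hasRegular_of_sharp S hfix) hreg
  push Not at hfix
  obtain ⟨g, a, b, hab, ha, hb, hg⟩ := hfix
  have hZ : Cfsg.IsZassenhausGroup G Ω := by
    refine ⟨S.faithful, S.h2, h3, ⟨g, hg, a, b, hab, ha, hb⟩, fun N hN htr => ?_⟩
    by_contra h
    push Not at h
    refine hreg ⟨N, hN, fun x y => ?_, fun x r hr hrx => ?_⟩
    · obtain ⟨⟨r, hr⟩, e⟩ := htr.exists_smul_eq x y
      exact ⟨r, hr, e⟩
    · have := (Subgroup.eq_bot_iff_forall _).1 (h x) ⟨r, hr⟩ hrx
      exact congrArg Subtype.val this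
  haveI := isSimple_of_zassenhaus S hZ
  rcases classify_iso hZ with h | h
  · exact Or.inl h
  · exact Or.inr (Or.inl h)

end H20.Semireg
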